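import Groth.Prelude.Def_W4c3irrattreebunCvg
import Mathlib.FieldTheory.AlgebraicClosure
import Mathlib.FieldTheory.IntermediateField.Adjoin.Basic
import Mathlib.RingTheory.Algebraic.Integral
import Mathlib.LinearAlgebra.Dimension.Finite

/-!
Covering gonality does not change when the ground field is replaced by its algebraic closure in `K`.
-/

set_option autoImplicit false
universe u

open W4c3irrattreebun IntermediateField

namespace Groth.Agent.IrrCvg

variable {k K : Type u} [Field k] [Field K] [Algebra k K]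

/-- a diagram over a bigger constant field is one over the smaller -/
theorem down (k' : IntermediateField k K) {e : ℕ} (D : CovDiag.{u} k' K e) :
    ∃ D' : CovDiag.{u} k K e, Algebra.IsSeparable K D.KC → Algebra.IsSeparable K D'.KC := by
  letI : Algebra k D.KC := ((algebraMap K D.KC).comp (algebraMap k K)).toAlgebra
  letI : Algebra k D.KB := ((algebraMap k' D.KB).comp (algebraMap k k')).toAlgebra
  haveI : IsScalarTower k K D.KC := IsScalarTower.of_algebraMap_eq fun _ => rfl
  haveI : IsScalarTower k D.KB D.KC := IsScalarTower.of_algebraMap_eq fun x => by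
    show algebraMap K D.KC (algebraMap k K x) = algebraMap D.KB D.KC (algebraMap k' D.KB (algebraMap k k' x))
    exact (RingHom.congr_fun (@IsScalarTower.algebraMap_eq k' K D.KC _ _ _ _ D.algKC D.algkC D.towerK)
      (algebraMap k k' x)).symm.trans
      (RingHom.congr_fun (@IsScalarTower.algebraMap_eq k' D.KB D.KC _ _ _ D.algkB D.algBC D.algkC D.towerB)
      (algebraMap k k' x))
  exact ⟨⟨D.KC, D.KB, D.t, D.transc, D.finrank_eq⟩, id⟩

/-- a diagram over `k` gives one over the algebraic closure of `k` in `K`, of no larger degree -/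
theorem up {e : ℕ} (D : CovDiag.{u} k K e) :
    ∃ e', e' ≤ e ∧ ∃ D' : CovDiag.{u} (algebraicClosure k K) K e',
      Algebra.IsSeparable K D.KC → Algebra.IsSeparable K D'.KC := by
  let S : Set D.KC := Set.range (algebraMap (algebraicClosure k K) D.KC)
  let B : IntermediateField D.KB D.KC := adjoin D.KB S
  haveI hBalg : Algebra.IsAlgebraic D.KB B := by
    refine isAlgebraic_adjoin ?_
    rintro _ ⟨c, rfl⟩
    have h1 : IsIntegral k (algebraMap K D.KC (c : K)) :=
      ((mem_algebraicClosure_iff'.1 c.2)).map (IsScalarTower.toAlgHom k K D.KC)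
    exact h1.tower_top
  letI : Algebra (algebraicClosure k K) B :=
    ((algebraMap (algebraicClosure k K) D.KC).codRestrict B.toSubfield
      fun c => subset_adjoin D.KB S ⟨c, rfl⟩).toAlgebra
  haveI : IsScalarTower (algebraicClosure k K) B D.KC := IsScalarTower.of_algebraMap_eq fun _ => rfl
  have ht : Transcendental B D.t := fun h => D.transc (h.restrictScalars D.KB)
  let F := adjoin D.KB ({D.t} : Set D.KC)
  let G := adjoin B ({D.t} : Set D.KC)
  have hle : F ≤ G.restrictScalars D.KB :=
    adjoin_le_iff.2 (Set.singleton_subset_iff.2 (mem_adjoin_simple_self B D.t))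
  letI : Algebra F G := ((IntermediateField.inclusion hle).toRingHom).toAlgebra
  haveI : IsScalarTower F G D.KC := IsScalarTower.of_algebraMap_eq fun _ => rfl
  haveI : Module.Finite G D.KC := Module.Finite.of_restrictScalars_finite F G D.KC
  refine ⟨Module.finrank G D.KC, ?_, ⟨D.KC, B, D.t, ht, rfl⟩, id⟩
  refine le_of_le_of_eq ?_ D.finrank_eq
  haveI : Module.Finite F G := Module.Finite.left F G D.KC
  rw [← Module.finrank_mul_finrank F G D.KC]
  exact Nat.le_mul_of_pos_left _ Module.finrank_pos

theorem sInf_eq {S T : Set ℕ} (h1 : T ⊆ S) (h2 : ∀ e ∈ S, ∃ e' ∈ T, e' ≤ e) : sInf S = sInf T := by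
  rcases S.eq_empty_or_nonempty with hS | hS
  · rw [hS, Set.subset_empty_iff] at h1
    rw [hS, h1]
  · obtain ⟨e', he', hle⟩ := h2 _ (Nat.sInf_mem hS)
    exact le_antisymm (Nat.sInf_le (h1 (Nat.sInf_mem ⟨e', he'⟩))) ((Nat.sInf_le he').trans hle)

theorem cvg_eq : cvg k K = cvg (algebraicClosure k K) K :=
  sInf_eq (fun _ ⟨D⟩ => ⟨(down _ D).choose⟩) fun e ⟨D⟩ =>
    let ⟨e', he, D', _⟩ := up D
    ⟨e', ⟨D'⟩, he⟩

theorem scvg_eq : scvg k K = scvg (algebraicClosure k K) K :=
  sInf_eq (fun _ ⟨D, hD⟩ => let ⟨D', h⟩ := down _ D; ⟨D', h hD⟩) fun e ⟨D, hD⟩ =>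
    let ⟨e', he, D', h⟩ := up D
    ⟨e', ⟨D', h hD⟩, he⟩

end Groth.Agent.IrrCvg
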